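import Mathlib
import Cfsg.Agent.S0261
import Cfsg.Agent.Lib.Helper89.N2R.Wr
import Cfsg.Agent.Lib.Helper89.N2R.G1
import Cfsg.Agent.Lib.Helper48.N2R.I1

set_option autoImplicit false

namespace Cfsg.Agent.Lib.N2R
open Function Matrix

theorem N2R_wreath {D : Type*} [Group D] (hD : Good D) (n : ℕ)
    (T : Subgroup (Equiv.Perm (Fin n))) :
    N2R ((Fin n → D) ⋊[(mulAutArrow : T →* MulAut (Fin n → D))] T) n :=
  ⟨wreath_lower hD n T, fun E hE hel => wreath_upper hD n T E hE hel⟩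

theorem N2R_Sp {F : Type*} [Field F] [Fintype F] (hF : Odd (Fintype.card F)) (n : ℕ)
    (P : Sylow 2 (Matrix.symplecticGroup (Fin n) F)) :
    N2R (P : Subgroup (Matrix.symplecticGroup (Fin n) F)) n := by
  obtain ⟨Q, T, ⟨e⟩⟩ := iso_Sp hF n P
  obtain ⟨k, hk, ⟨e'⟩⟩ := Cfsg.Agent.S0261.result hF Q
  exact (N2R_wreath ((good_quat k hk).of_equiv e'.symm) n T).of_equiv e.symm

end Cfsg.Agent.Lib.N2R
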