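import Mathlib
import Cfsg.Agent.Lib.Helper89.N2R.AsmSp
import Cfsg.Agent.Lib.Helper89.N2R.G2
import Cfsg.Agent.Lib.Helper48.N2R.G3
import Cfsg.Agent.Lib.Helper48.N2R.I2
import Cfsg.Agent.Lib.Helper48.N2R.I3
import Cfsg.Agent.Lib.Helper48.N2R.I4

set_option autoImplicit false

namespace Cfsg.Agent.Lib.N2R
open Function Matrix

theorem N2R_GL_one {F : Type*} [Field F] [Fintype F] (hq : Fintype.card F % 4 = 1) (n : ℕ)
    (P : Sylow 2 (GL (Fin n) F)) : N2R (P : Subgroup (GL (Fin n) F)) n := by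
  obtain ⟨C, T, ⟨e⟩⟩ := iso_GL_one hq n P
  exact (N2R_wreath (good_units hq C) n T).of_equiv e.symm

theorem N2R_GL_three {F : Type*} [Field F] [Fintype F] (hq : Fintype.card F % 4 = 3) (n : ℕ)
    (P : Sylow 2 (GL (Fin n) F)) : N2R (P : Subgroup (GL (Fin n) F)) ((n + 1) / 2) := by
  have hq' : 4 ∣ Fintype.card F + 1 := by omega
  rcases Nat.even_or_odd' n with ⟨m, rfl | rfl⟩
  · obtain ⟨S, T, ⟨e⟩⟩ := iso_GL_three_even hq' m P
    have h : (2 * m + 1) / 2 = m := by omega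
    rw [h]
    exact (N2R_wreath (good_GL2 hq' S) m T).of_equiv e.symm
  · obtain ⟨S, T, ⟨e⟩⟩ := iso_GL_three_odd hq' m P
    have h : (2 * m + 1 + 1) / 2 = m + 1 := by omega
    rw [h]
    exact (N2R_prod (by simp [Nat.card_eq_fintype_card])
      (N2R_wreath (good_GL2 hq' S) m T)).of_equiv e.symm

end Cfsg.Agent.Lib.N2R
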